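import Cfsg.Agent.Lib.Fusion.Saturation
import Cfsg.Agent.Lib.Fusion.Normal
import Cfsg.Agent.Lib.FusionChain.Stabilizer
import Cfsg.Agent.Lib.FusionChain.Alperin
import Cfsg.Agent.Lib.FusionSparse.Basic
import Cfsg.Agent.Lib.PGroup.Basic

/-
# Systems all of whose automorphisms of order prime to p are trivial
-/

namespace Cfsg.Agent.FusionInner

open Cfsg Cfsg.FusionSystem Cfsg.Agent.Fusion Cfsg.Agent.FusionChain Cfsg.Agent.FusionSparse

variable {Ω : Type*} [Group Ω] {S : Subgroup Ω} {F : FusionSystem S} {p : ℕ}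

/-- No automorphism of order prime to `p` other than the identity occurs in the system. -/
def NoPPrime (F : FusionSystem S) (p : ℕ) : Prop :=
  ∀ R : Subgroup Ω, R ≤ S → ∀ α ∈ F.autGroup R, (orderOf α).Coprime p → α = 1

theorem autFn_pow_mem {R Q : Subgroup Ω} {α : MulAut R} (hQ : Q ≤ R) (h : ∀ x ∈ Q, autFn α x ∈ Q) :
    ∀ (n : ℕ), ∀ x ∈ Q, autFn (α ^ n) x ∈ Q := by
  intro n
  induction n with
  | zero =>
    intro x hx
    rw [pow_zero, autFn_one (hQ hx)]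
    exact hx
  | succ m ih =>
    intro x hx
    rw [pow_succ', autFn_mul_comp _ _ (hQ hx)]
    exact h _ (ih x hx)

theorem autFn_pow_agree {R M : Subgroup Ω} {α : MulAut R} {γ : MulAut M} (hR : R ≤ M)
    (e : ∀ x ∈ R, autFn γ x = autFn α x) :
    ∀ (n : ℕ), ∀ x ∈ R, autFn (γ ^ n) x = autFn (α ^ n) x := by
  intro n
  induction n with
  | zero =>
    intro x hx
    rw [pow_zero, pow_zero, autFn_one (hR hx), autFn_one hx]
  | succ m ih =>
    intro x hx
    rw [pow_succ', pow_succ', autFn_mul_comp _ _ (hR hx), autFn_mul_comp _ _ hx, ih x hx,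
      e _ (autFn_mem _ hx)]

theorem eq_one_of_autFn {R : Subgroup Ω} {α : MulAut R} (h : ∀ x ∈ R, autFn α x = x) : α = 1 := by
  ext x
  rw [MulAut.one_apply]
  exact (autFn_apply α x.2).symm.trans (h x x.2)

/-- An automorphism of order prime to `p` with an extension of `p`-power order is trivial. -/
theorem eq_one_of_extension {R M : Subgroup Ω} {α : MulAut R} {γ : MulAut M} (hR : R ≤ M)
    (e : ∀ x ∈ R, autFn γ x = autFn α x) (hα : (orderOf α).Coprime p) {k : ℕ} (hγ : γ ^ p ^ k = 1) :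
    α = 1 := by
  have h1 : α ^ p ^ k = 1 := eq_one_of_autFn fun x hx => by
    rw [← autFn_pow_agree hR e (p ^ k) x hx, hγ, autFn_one (hR hx)]
  exact orderOf_eq_one_iff.1 (Nat.eq_one_of_dvd_coprimes (hα.pow_right k) dvd_rfl (orderOf_dvd_of_pow_eq_one h1))

/-- Restriction of an automorphism to an invariant subgroup. -/
theorem exists_restrict [Finite S] {R Q : Subgroup Ω} (hR : R ≤ S) (hQ : Q ≤ R) {α : MulAut R}
    (hα : α ∈ F.autGroup R) (h : ∀ x ∈ Q, autFn α x ∈ Q) :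
    ∃ β ∈ F.autGroup Q, (∀ x ∈ Q, autFn β x = autFn α x) ∧ orderOf β ∣ orderOf α := by
  have hm := ((isIso_autFn hR hα).1).mono hQ
  have himg : img (autFn α) Q = Q :=
    eq_of_le_of_card (hQ.trans hR) (hm.img_le le_rfl h) (hm.card_img le_rfl).ge
  obtain ⟨β, hβ, e⟩ := exists_aut_of_isIso (F := F) (⟨hm, himg⟩ : IsIso F Q Q (autFn α))
  have e' : ∀ x ∈ Q, autFn β x = autFn α x := fun x hx => (autFn_apply β hx).trans (e ⟨x, hx⟩)
  refine ⟨β, hβ, e', orderOf_dvd_of_pow_eq_one (eq_one_of_autFn fun x hx => ?_)⟩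
  rw [← autFn_pow_agree hQ (fun x hx => (e' x hx).symm) _ x hx, pow_orderOf_eq_one, autFn_one (hQ hx)]

/-- Without automorphisms of order prime to `p`, every map is a conjugation by an element of `S`. -/
theorem exists_conj_of_noPPrime [Finite S] [Fact p.Prime] (hS : IsPGroup p S) (hF : F.IsSaturated p)
    (h : NoPPrime F p) {P : Subgroup Ω} {f : Ω → Ω} (hf : IsMap F P f) :
    ∃ s ∈ S, ∀ x ∈ P, f x = s * x * s⁻¹ := by
  refine alperin hS hF (fun P f => ∃ s ∈ S, ∀ x ∈ P, f x = s * x * s⁻¹) ?_ ?_ ?_ ?_ hf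
  · rintro P f g - ⟨s, hs, e⟩ he
    exact ⟨s, hs, fun x hx => he x hx ▸ e x hx⟩
  · rintro P P' f - hle ⟨s, hs, e⟩
    exact ⟨s, hs, fun x hx => e x (hle hx)⟩
  · rintro P P' f g - - hmem ⟨s, hs, e⟩ ⟨t, ht, e'⟩
    refine ⟨t * s, S.mul_mem ht hs, fun x hx => ?_⟩
    show g (f x) = _
    rw [e' _ (hmem x hx), e x hx]
    group
  · intro R hR _ _ α hα
    have hfin := finite_mulAut hR.1
    have hp : IsPGroup p (F.autGroup R) := isPGroup_of_coprime_trivial fun g hg =>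
      Subtype.ext (h R hR.1 g g.2 (by rwa [Subgroup.orderOf_coe]))
    obtain ⟨-, T, hT⟩ := fullyAutomized_of_fullyNormalized hS hF hR
    have htop : (⊤ : Subgroup (F.autGroup R)) = T :=
      T.is_maximal' (hp.to_subgroup ⊤) le_top
    have hmem : (⟨α, hα⟩ : F.autGroup R) ∈ (autInducedBy S R).subgroupOf (F.autGroup R) :=
      hT ▸ htop ▸ Subgroup.mem_top _
    obtain ⟨s, hs, e⟩ := mem_autInducedBy_iff.1 (Subgroup.mem_subgroupOf.1 hmem)
    exact ⟨s, hs, fun x hx => (autFn_apply α hx).trans (e ⟨x, hx⟩)⟩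

theorem hom_eq_inner_iff (P : Subgroup Ω) :
    F.Hom P = (innerFusionSystem S).Hom P ↔ ∀ f, IsMap F P f → ∃ s ∈ S, ∀ x ∈ P, f x = s * x * s⁻¹ := by
  constructor
  · rintro h f ⟨φ, hφ, e⟩
    rw [h] at hφ
    obtain ⟨-, s, hs, hφ'⟩ := hφ
    exact ⟨s, hs, fun x hx => (e x hx).symm.trans (hφ' ⟨x, hx⟩)⟩
  · intro h
    refine Set.ext fun φ => ⟨fun hφ => ?_, ?_⟩
    · obtain ⟨s, hs, e⟩ := h _ (isMap_toFn hφ)
      exact ⟨(F.le_of_mem hφ).1, s, hs, fun x => (toFn_coe φ x).symm.trans (e x x.2)⟩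
    · rintro ⟨hP, s, hs, e⟩
      exact mem_of_isMap (IsMap.conj hP hs) fun x => e x

/-! ### Strongly closed subgroups -/

theorem stronglyClosed_inf {A B : Subgroup Ω} (hA : F.StronglyClosed A) (hB : F.StronglyClosed B) :
    F.StronglyClosed (A ⊓ B) :=
  stronglyClosed_iff.2 ⟨inf_le_left.trans hA.1, fun P f hf x hx hxm =>
    ⟨(stronglyClosed_iff.1 hA).2 P f hf x hx hxm.1, (stronglyClosed_iff.1 hB).2 P f hf x hx hxm.2⟩⟩

theorem stronglyClosed_bot : F.StronglyClosed ⊥ := by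
  refine stronglyClosed_iff.2 ⟨bot_le, fun P f hf x hx hx1 => ?_⟩
  rw [Subgroup.mem_bot] at hx1 ⊢
  rw [hx1, hf.map_one]

/-- A nontrivial strongly closed subgroup containing no other one. -/
def IsMinimalClosed (F : FusionSystem S) (U : Subgroup Ω) : Prop :=
  F.StronglyClosed U ∧ U ≠ ⊥ ∧ ∀ V, F.StronglyClosed V → V ≤ U → V ≠ ⊥ → V = U

theorem exists_minimalClosed [Finite S] {V : Subgroup Ω} (hV : F.StronglyClosed V) (hV' : V ≠ ⊥) :
    ∃ U, IsMinimalClosed F U ∧ U ≤ V := by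
  classical
  have hex : ∃ n, ∃ U, F.StronglyClosed U ∧ U ≠ ⊥ ∧ U ≤ V ∧ Nat.card U = n :=
    ⟨_, V, hV, hV', le_rfl, rfl⟩
  obtain ⟨U, hU, hU', hle, hcard⟩ := Nat.find_spec hex
  refine ⟨U, ⟨hU, hU', fun X hX hXU hX' => ?_⟩, hle⟩
  refine eq_of_le_of_card hU.1 hXU ?_
  rw [hcard]
  exact Nat.find_min' hex ⟨X, hX, hX', hXU.trans hle, rfl⟩

/-- A subgroup of order `p ^ m` between two subgroups of a `p`-group. -/
theorem exists_between [Finite S] [Fact p.Prime] (hS : IsPGroup p S) {A B : Subgroup Ω} (hA : A ≤ B)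
    (hB : B ≤ S) {m : ℕ} (h1 : Nat.card A ≤ p ^ m) (h2 : p ^ m ≤ Nat.card B) :
    ∃ Q, A ≤ Q ∧ Q ≤ B ∧ Nat.card Q = p ^ m := by
  have := finite_of_le hB
  have hp : p.Prime := Fact.out
  obtain ⟨b, hb⟩ := IsPGroup.iff_card.1 (hS.to_le hB)
  have := finite_of_le (hA.trans hB)
  obtain ⟨a, ha⟩ := IsPGroup.iff_card.1 (hS.to_le (hA.trans hB))
  have hab : Nat.card (A.subgroupOf B) = p ^ a := by
    rw [Nat.card_congr (Subgroup.subgroupOfEquivOfLe hA).toEquiv, ha]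
  have ham : a ≤ m := (Nat.pow_le_pow_iff_right hp.one_lt).1 (ha ▸ h1)
  have hmb : m ≤ b := (Nat.pow_le_pow_iff_right hp.one_lt).1 (hb ▸ h2)
  obtain ⟨K, hK, hle⟩ := Sylow.exists_subgroup_card_pow_prime_le p (hb ▸ pow_dvd_pow p hmb)
    (A.subgroupOf B) hab ham
  refine ⟨K.map B.subtype, fun x hx => ⟨⟨x, hA hx⟩, hle hx, rfl⟩, Subgroup.map_subtype_le K, ?_⟩
  rw [Subgroup.card_map_of_injective B.subtype_injective, hK]

/-- An automorphism of order prime to `p` fixing a subgroup containing its centralizer is trivial. -/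
theorem eq_one_of_fix_centralizer [Finite S] [Fact p.Prime] (hS : IsPGroup p S) {R Q : Subgroup Ω}
    (hR : R ≤ S) (hQ : Q ≤ R) {α : MulAut R} (hα : (orderOf α).Coprime p)
    (hfix : ∀ x ∈ Q, autFn α x = x)
    (hC : ∀ x ∈ R, (∀ q ∈ Q, x * q = q * x) → autFn α x = x) : α = 1 := by
  have := finite_of_le hR
  have hRp : IsPGroup p R := hS.to_le hR
  let X : Subgroup R :=
    { carrier := {x | α x = x}
      one_mem' := map_one α
      mul_mem' := fun {a b} ha hb => by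
        show α (a * b) = a * b
        rw [map_mul, show α a = a from ha, show α b = b from hb]
      inv_mem' := fun {a} ha => by
        show α a⁻¹ = a⁻¹
        rw [map_inv, show α a = a from ha] }
  have hfixR : ∀ x : R, autFn α x = (x : Ω) → x ∈ X := fun x hx =>
    Subtype.ext ((autFn_apply α x.2).symm.trans hx)
  suffices X = ⊤ by
    ext x
    have hx : x ∈ X := this ▸ Subgroup.mem_top x
    rw [show α x = x from hx, MulAut.one_apply]
  by_contra hne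
  obtain ⟨x, hxn, hx⟩ := PGroup.exists_mem_normalizer_not_mem hRp hne
  apply hx
  show α x = x
  refine eq_self_of_stab hRp α hα X (fun u hu => hu) x (hfixR _ (hC _ (x⁻¹ * α x).2 ?_))
  intro q hq
  have hqX : (⟨q, hQ hq⟩ : R) ∈ X := hfixR _ (hfix q hq)
  have h1 : x * ⟨q, hQ hq⟩ * x⁻¹ ∈ X := (Subgroup.mem_normalizer_iff.1 hxn _).1 hqX
  have h1' : α (x * ⟨q, hQ hq⟩ * x⁻¹) = x * ⟨q, hQ hq⟩ * x⁻¹ := h1
  rw [map_mul, map_mul, map_inv, show α ⟨q, hQ hq⟩ = ⟨q, hQ hq⟩ from hqX] at h1'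
  have h2 : α x * ⟨q, hQ hq⟩ = x * ⟨q, hQ hq⟩ * x⁻¹ * α x := by rw [← h1']; group
  have h3 : (x⁻¹ * α x) * ⟨q, hQ hq⟩ = ⟨q, hQ hq⟩ * (x⁻¹ * α x) := by
    rw [mul_assoc, h2]; group
  exact congrArg Subtype.val h3

end Cfsg.Agent.FusionInner
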