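import Cfsg.Agent.Lib.FusionInner.Basic
import Cfsg.Agent.Lib.Fusion.Quotient
import Cfsg.Agent.Lib.FusionChain.Puig
import Cfsg.Agent.Lib.FusionTate.Lift
import Cfsg.Agent.Lib.FusionStable.Basic
import Cfsg.Agent.S5098

/-
# A nilpotency criterion by weakly embedded subgroups of one order
-/

namespace Cfsg.Agent.FusionInner

open Cfsg Cfsg.FusionSystem Cfsg.Agent.Fusion Cfsg.Agent.FusionChain Cfsg.Agent.FusionSparse
open scoped commutatorElement

universe u

variable {Ω : Type u} [Group Ω] {S : Subgroup Ω} {F : FusionSystem S} {p d : ℕ}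

/-- The hypotheses on the subgroups of order `d` that pass to subsystems and factor systems. -/
structure Hyp (F : FusionSystem S) (p d : ℕ) : Prop where
  pow : ∃ m, d = p ^ m
  one_lt : 1 < d
  lt : d < Nat.card S
  stab : ∀ R Q : Subgroup Ω, Q ≤ R → R ≤ S → Nat.card Q = d → ∀ α ∈ F.autGroup R,
    (∀ x ∈ Q, autFn α x ∈ Q) → (orderOf α).Coprime p → α = 1
  emb : ∀ Q : Subgroup Ω, Q ≤ S → Nat.card Q = d →
    ∃ P, F.StronglyClosed P ∧ F.StronglyClosed (Q ⊔ P) ∧ F.StronglyClosed (Q ⊓ P)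

/-- Every map is a conjugation modulo `U`. -/
def ModConj (F : FusionSystem S) (U : Subgroup Ω) : Prop :=
  ∀ P f, IsMap F P f → ∃ s ∈ S, ∀ x ∈ P, (s * x * s⁻¹)⁻¹ * f x ∈ U

theorem Hyp.exists_pow_eq_one [Finite S] [Fact p.Prime] (h : Hyp F p d) {M Q : Subgroup Ω} (hM : M ≤ S)
    (hQ : Q ≤ M) (hd : Nat.card Q = d) {γ : MulAut M} (hγ : γ ∈ F.autGroup M)
    (hst : ∀ x ∈ Q, autFn γ x ∈ Q) : ∃ k, γ ^ p ^ k = 1 := by
  have := finite_mulAut hM
  obtain ⟨k, hk⟩ := exists_pow_coprime p γ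
  exact ⟨k, h.stab M Q hQ hM hd _ (pow_mem hγ _) (autFn_pow_mem hQ hst _) hk⟩

/-- An automorphism of order prime to `p` is trivial modulo `U` when all maps are conjugations modulo `U`. -/
theorem mul_mem_of_modConj [Finite S] [Fact p.Prime] (hS : IsPGroup p S) {U : Subgroup Ω}
    (hU : F.StronglyClosed U) (h : ModConj F U) {R : Subgroup Ω} (hR : R ≤ S) {α : MulAut R}
    (hα : α ∈ F.autGroup R) (hc : (orderOf α).Coprime p) {x : Ω} (hx : x ∈ R) :
    x⁻¹ * autFn α x ∈ U := by
  obtain ⟨s, hs, e⟩ := h R _ (isIso_autFn hR hα).1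
  have key : ∀ n : ℕ, ∀ x ∈ R, (s ^ n * x * (s ^ n)⁻¹)⁻¹ * autFn (α ^ n) x ∈ U := by
    intro n
    induction n with
    | zero =>
      intro x hx
      rw [pow_zero, pow_zero, autFn_one hx]
      simp
    | succ m ih =>
      intro x hx
      rw [pow_succ' α, autFn_mul_comp _ _ hx]
      have h1 := e _ (autFn_mem (α ^ m) hx)
      have h2 := Fusion.conj_mem_of_stronglyClosed hU hs (ih x hx)
      have h3 := U.mul_mem h2 h1
      convert h3 using 1
      rw [pow_succ']
      group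
  obtain ⟨j, hj⟩ := hS ⟨s, hs⟩
  obtain ⟨n, hn1, hn0⟩ := Nat.chineseRemainder (hc.pow_right j) 1 0
  have hαn : α ^ n = α := by
    conv_rhs => rw [← pow_one α]
    exact pow_eq_pow_iff_modEq.2 hn1
  have hsn : s ^ n = 1 := by
    obtain ⟨c, rfl⟩ := Nat.modEq_zero_iff_dvd.1 hn0
    rw [pow_mul]
    have hsj : s ^ p ^ j = 1 := by simpa using congrArg Subtype.val hj
    rw [hsj, one_pow]
  simpa [hαn, hsn] using key n x hx

/-- A minimal nontrivial strongly closed subgroup has order at most `d`. -/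
theorem Hyp.card_le [Finite S] [Fact p.Prime] (hS : IsPGroup p S) (h : Hyp F p d) {U : Subgroup Ω}
    (hU : IsMinimalClosed F U) : Nat.card U ≤ d := by
  by_contra hlt
  obtain ⟨m, hm⟩ := h.pow
  obtain ⟨Q, -, hQU, hQ⟩ := exists_between hS (bot_le : (⊥ : Subgroup Ω) ≤ U) hU.1.1 (m := m)
    (by rw [Subgroup.card_bot, ← hm]; exact h.one_lt.le) (hm ▸ (not_le.1 hlt).le)
  rw [← hm] at hQ
  have hne : ∀ V : Subgroup Ω, F.StronglyClosed V → V = Q → False := by
    rintro V hV rfl
    have hVb : V ≠ ⊥ := fun he => h.one_lt.ne' (by rw [← hQ, he, Subgroup.card_bot])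
    exact hlt (le_of_eq ((congrArg (fun X : Subgroup Ω => Nat.card X) (hU.2.2 V hV hQU hVb)).symm.trans hQ))
  obtain ⟨P, hP, hQP, hQiP⟩ := h.emb Q (hQU.trans hU.1.1) hQ
  rcases eq_or_ne (P ⊓ U) ⊥ with hb | hb
  · refine hne _ (stronglyClosed_inf hQP hU.1) (le_antisymm ?_ (le_inf le_sup_left hQU))
    intro y hy
    have hn : Q ≤ Subgroup.normalizer (P : Set Ω) :=
      (hQU.trans hU.1.1).trans (normalizes_of_stronglyClosed hP)
    have hy1 : y ∈ Q ⊔ P := hy.1
    rw [← SetLike.mem_coe, Subgroup.coe_mul_of_left_le_normalizer_right _ _ hn] at hy1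
    obtain ⟨q, hq, r, hr, rfl⟩ := hy1
    have hrU : r ∈ P ⊓ U := ⟨hr, by simpa using U.mul_mem (U.inv_mem (hQU hq)) hy.2⟩
    rw [hb, Subgroup.mem_bot] at hrU
    rw [hrU]
    simpa using hq
  · have hUP : U ≤ P := by
      rw [← hU.2.2 _ (stronglyClosed_inf hP hU.1) inf_le_right hb]
      exact inf_le_left
    exact hne _ hQiP (inf_eq_left.2 (hQU.trans hUP))

/-- A minimal strongly closed subgroup of order `p` with all maps conjugations modulo it. -/
theorem Hyp.noPPrime_of_card_eq [Finite S] [Fact p.Prime] (hS : IsPGroup p S) (hF : F.IsSaturated p)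
    (h : Hyp F p d) {W : Subgroup Ω} (hW : F.StronglyClosed W) (hmod : ModConj F W)
    (hc : Nat.card W = p) : NoPPrime F p := by
  have hp : p.Prime := Fact.out
  intro R hR α hα hcop
  have hstab : ∀ x : R, x⁻¹ * α x ∈ W.subgroupOf R := fun x => by
    have := mul_mem_of_modConj hS hW hmod hR hα hcop x.2
    rw [autFn_apply α x.2] at this
    exact Subgroup.mem_subgroupOf.2 this
  have := finite_of_le hR
  have := finite_of_le hW.1
  suffices hfix : ∀ u ∈ W.subgroupOf R, α u = u by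
    ext x
    rw [MulAut.one_apply, eq_self_of_stab (hS.to_le hR) α hcop _ hfix x (hstab x)]
  intro u hu
  by_cases hWR : W ≤ R
  swap
  · have hlt : W ⊓ R < W := lt_of_le_of_ne inf_le_left fun he => hWR (he ▸ inf_le_right)
    have hdvd := Subgroup.card_dvd_of_le hlt.le
    rw [hc, Nat.dvd_prime hp] at hdvd
    rcases hdvd with h1 | h1
    · have hmem : (u : Ω) ∈ W ⊓ R := ⟨hu, u.2⟩
      rw [Subgroup.card_eq_one.1 h1, Subgroup.mem_bot] at hmem
      rw [show u = 1 from Subtype.ext hmem, map_one]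
    · exact absurd (eq_of_le_of_card hW.1 hlt.le (by rw [hc, h1])) hlt.ne
  have hinv : ∀ x ∈ W, autFn α x ∈ W := fun x hx => by
    have hxW : x⁻¹ * autFn α x ∈ W := mul_mem_of_modConj hS hW hmod hR hα hcop (hWR hx)
    simpa using W.mul_mem hx hxW
  obtain ⟨β, hβ, eβ, hdiv⟩ := exists_restrict hR hWR hα hinv
  have hβc : (orderOf β).Coprime p := hcop.of_dvd_left hdiv
  suffices β = 1 by
    apply Subtype.ext
    have h1 := eβ u hu
    have hu' : (u : Ω) ∈ W := hu
    rw [this, autFn_one hu', autFn_apply α u.2] at h1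
    exact h1.symm
  -- `W` is central in `S`
  have hnW : ∀ g ∈ S, g ∈ normalizerIn S W := fun g hg => ⟨hg, normalizes_of_stronglyClosed hW hg⟩
  have hcent : centralizerIn S W = S := by
    refine le_antisymm inf_le_left fun g hg => mem_centralizerIn.2 ⟨hg, fun y hy => ?_⟩
    have hcard : Nat.card (MulAut W) = p - 1 := by
      have := isCyclic_of_prime_card hc
      rw [IsCyclic.card_mulAut, hc, Nat.totient_prime hp]
    have hfinA : Finite (MulAut W) := finite_mulAut hW.1
    have h1 := orderOf_map_dvd (normConj S W) ⟨g, hnW g hg⟩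
    have hpg : IsPGroup p (normalizerIn S W) := hS.to_le inf_le_left
    have := finite_of_le (inf_le_left : normalizerIn S W ≤ S)
    obtain ⟨k, hk⟩ := IsPGroup.iff_orderOf.mp hpg ⟨g, hnW g hg⟩
    have h2 : orderOf (normConj S W ⟨g, hnW g hg⟩) ∣ p - 1 := hcard ▸ orderOf_dvd_natCard _
    have h3 : (p - 1).Coprime (p ^ k) :=
      ((hp.coprime_iff_not_dvd.2 (Nat.not_dvd_of_pos_of_lt (Nat.sub_pos_of_lt hp.one_lt)
        (Nat.sub_lt hp.pos Nat.one_pos))).pow_left k).symm
    have h4 := orderOf_eq_one_iff.1 (Nat.eq_one_of_dvd_coprimes h3 h2 (hk ▸ h1))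
    have h5 : g * y * g⁻¹ = y := by
      have h6 := congrArg Subtype.val (DFunLike.congr_fun h4 (⟨y, hy⟩ : W))
      rwa [normConj_apply, MulAut.one_apply] at h6
    exact mul_inv_eq_iff_eq_mul.1 h5
  obtain ⟨W', hW', hWW'⟩ : ∃ W', F.IsFullyNormalized W' ∧ W' = W :=
    ⟨W, ⟨hW.1, fun Q _ => by
      haveI : Finite (normalizerIn S W) := finite_of_le inf_le_left
      exact Subgroup.card_le_of_le fun g hg => hnW g hg.1⟩, rfl⟩
  subst hWW'
  obtain ⟨f, hf, hfe, hfC⟩ := exists_extension_NK (receptive_of_fullyNormalized hS hF hW') hβ ⊥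
    fun k hk => by
      obtain rfl : k = 1 := (Subgroup.mem_bot.1 hk.2)
      simp
  rw [NK_bot, hcent] at hf hfC
  rw [sup_eq_right.2 hW.1] at hf
  have hfS : img f S = S := eq_of_le_of_card le_rfl (hf.img_le le_rfl fun x hx => hf.mem hx) (hf.card_img le_rfl).ge
  obtain ⟨γ, hγ, eγ⟩ := exists_aut_of_isIso (F := F) (⟨hf, hfS⟩ : IsIso F S S f)
  have hext : ∀ x ∈ W', autFn γ x = autFn β x := fun x hx => by
    rw [autFn_apply γ (hW.1 hx), eγ ⟨x, hW.1 hx⟩, hfe x hx]
  obtain ⟨m, hm⟩ := h.pow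
  obtain ⟨Q, hWQ, hQS, hQ⟩ := exists_between hS hW.1 le_rfl (m := m)
    (by
      rw [hc]
      rcases Nat.eq_zero_or_pos m with rfl | hm0
      · exact absurd (hm.trans (pow_zero p)) h.one_lt.ne'
      · exact Nat.le_self_pow hm0.ne' p)
    (hm ▸ h.lt.le)
  have := finite_mulAut (le_refl S)
  obtain ⟨k, hk⟩ := exists_pow_coprime p γ
  have hone : γ ^ p ^ k = 1 := h.stab S Q hQS le_rfl (hm ▸ hQ) _ (pow_mem hγ _) (fun x hx => by
    have := mul_mem_of_modConj hS hW hmod le_rfl (pow_mem hγ (p ^ k)) hk (hQS hx)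
    simpa using Q.mul_mem hx (hWQ this)) hk
  exact eq_one_of_extension hW.1 hext hβc hone

/-- The conclusion when all maps are conjugations modulo every minimal strongly closed subgroup. -/
theorem Hyp.noPPrime_of_modConj [Finite S] [Fact p.Prime] (hS : IsPGroup p S) (hF : F.IsSaturated p)
    (h : Hyp F p d) {W : Subgroup Ω} (hW : IsMinimalClosed F W)
    (hmod : ∀ U, IsMinimalClosed F U → ModConj F U) : NoPPrime F p := by
  have hp : p.Prime := Fact.out
  by_cases hall : ∀ V, F.StronglyClosed V → V ≠ ⊥ → W ≤ V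
  swap
  · obtain ⟨V, hV, hVne, hWV⟩ :
        ∃ V, F.StronglyClosed V ∧ V ≠ ⊥ ∧ ¬ W ≤ V := by
      simpa only [not_forall, exists_prop] using hall
    have hb : V ⊓ W = ⊥ := by
      by_contra hb
      exact hWV (hW.2.2 _ (stronglyClosed_inf hV hW.1) inf_le_right hb ▸ inf_le_left)
    obtain ⟨U, hU, hUV⟩ := exists_minimalClosed hV hVne
    intro R hR α hα hc
    refine eq_one_of_autFn fun x hx => ?_
    have h1 := mul_mem_of_modConj hS hU.1 (hmod U hU) hR hα hc hx
    have h2 := mul_mem_of_modConj hS hW.1 (hmod W hW) hR hα hc hx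
    have h3 : x⁻¹ * autFn α x ∈ V ⊓ W := ⟨hUV h1, h2⟩
    rw [hb, Subgroup.mem_bot, inv_mul_eq_one] at h3
    exact h3.symm
  have hWp : IsPGroup p W := hS.to_le hW.1.1
  have := finite_of_le hW.1.1
  obtain ⟨m, hm⟩ := h.pow
  have hpd : p ≤ d := by
    rw [hm]
    rcases Nat.eq_zero_or_pos m with rfl | hm0
    · exact absurd (hm.trans (pow_zero p)) h.one_lt.ne'
    · exact Nat.le_self_pow hm0.ne' p
  by_cases hcp : Nat.card W = p
  · exact h.noPPrime_of_card_eq hS hF hW.1 (hmod W hW) hcp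
  -- `W` lies in every maximal subgroup
  have hWM : ∀ M : Subgroup S, IsCoatom M → W.subgroupOf S ≤ M := by
    intro M hM
    by_contra hnle
    have hidx := PGroup.isCoatom_index hS hM
    have hcM : Nat.card M * p = Nat.card S := hidx ▸ M.card_mul_index
    have := PGroup.isCoatom_normal hS hM
    -- a nontrivial element of `W` in `M`
    have hinf : M ⊓ W.subgroupOf S ≠ ⊥ := by
      intro hb
      have hd : Nat.card (W.subgroupOf S) ∣ p := by
        let q : W.subgroupOf S →* S ⧸ M := (QuotientGroup.mk' M).comp (Subgroup.subtype _)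
        have hq : Function.Injective q := (injective_iff_map_eq_one q).2 fun y hy => by
          have hyM : (y : S) ∈ M := (QuotientGroup.eq_one_iff _).1 hy
          have hmem : (y : S) ∈ M ⊓ W.subgroupOf S := ⟨hyM, y.2⟩
          rw [hb, Subgroup.mem_bot] at hmem
          exact Subtype.ext hmem
        have := Subgroup.card_dvd_of_injective q hq
        rwa [← Subgroup.index_eq_card, hidx] at this
      rw [Nat.card_congr (Subgroup.subgroupOfEquivOfLe hW.1.1).toEquiv, Nat.dvd_prime hp] at hd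
      exact hW.2.1 (Subgroup.card_eq_one.1 (hd.resolve_right hcp))
    obtain ⟨z, hz⟩ : ∃ z : ↥(M ⊓ W.subgroupOf S), orderOf z = p := by
      obtain ⟨n, hn⟩ := IsPGroup.iff_card.1 (hS.to_subgroup (M ⊓ W.subgroupOf S))
      refine exists_prime_orderOf_dvd_card' p ?_
      rw [hn]
      refine dvd_pow_self p fun h0 => hinf (Subgroup.card_eq_one.1 ?_)
      rw [hn, h0, pow_zero]
    let M' : Subgroup Ω := M.map S.subtype
    have hM' : M' ≤ S := Subgroup.map_subtype_le M
    have hzM : Subgroup.zpowers ((z : S) : Ω) ≤ M' :=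
      Subgroup.zpowers_le.2 ⟨(z : S), z.2.1, rfl⟩
    obtain ⟨Q, hzQ, hQM, hQ⟩ := exists_between hS hzM hM' (m := m)
      (by rw [Nat.card_zpowers, Subgroup.orderOf_coe, Subgroup.orderOf_coe, hz, ← hm]; exact hpd)
      (by
        rw [Subgroup.card_map_of_injective S.subtype_injective]
        obtain ⟨a, ha⟩ := IsPGroup.iff_card.1 (hS.to_subgroup M)
        rw [ha]
        refine Nat.pow_le_pow_right hp.pos ?_
        have h1 : p ^ m < p ^ (a + 1) := by rw [pow_succ, ← ha, hcM, ← hm]; exact h.lt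
        exact Nat.lt_succ_iff.1 ((Nat.pow_lt_pow_iff_right hp.one_lt).1 h1))
    have hzne : ((z : S) : Ω) ≠ 1 := fun h1 => hp.ne_one (by
      rw [← hz, ← Subgroup.orderOf_coe, ← Subgroup.orderOf_coe, h1, orderOf_one])
    have hzmem : ((z : S) : Ω) ∈ Q := hzQ (Subgroup.mem_zpowers _)
    have hzW : ((z : S) : Ω) ∈ W := z.2.2
    have hfinal : ∀ V, F.StronglyClosed V → V ≠ ⊥ → V ≤ Q → False := fun V hV hVne hVQ =>
      hnle fun y hy => by
        obtain ⟨y', hy', e⟩ := hQM (hVQ (hall V hV hVne hy))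
        exact (Subtype.ext e : y' = y) ▸ hy'
    obtain ⟨P, hP, hQP, hQiP⟩ := h.emb Q (hQM.trans hM') (hm ▸ hQ)
    rcases eq_or_ne (Q ⊓ P) ⊥ with hb | hb
    · rcases eq_or_ne P ⊥ with hPb | hPb
      · rw [hPb, sup_bot_eq] at hQP
        refine hfinal Q hQP ?_ le_rfl
        intro hQb
        rw [hQb] at hzmem
        exact hzne hzmem
      · have h1 : ((z : S) : Ω) ∈ Q ⊓ P := ⟨hzmem, hall P hP hPb hzW⟩
        rw [hb] at h1
        exact hzne h1
    · exact hfinal _ hQiP hb inf_le_left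
  -- the focal subgroup lies in the Frattini subgroup
  have hfoc : ∀ y : S, (y : Ω) ∈ F.focalSubgroup → y ∈ frattini S := by
    have hle : F.focalSubgroup ≤ (frattini S).map S.subtype := by
      refine (Subgroup.closure_le _).2 ?_
      rintro _ ⟨P, φ, x, hφ, rfl⟩
      have hf := isMap_toFn hφ
      obtain ⟨s, hs, e⟩ := hmod W hW P _ hf
      have hxS : (x : Ω) ∈ S := hf.le x.2
      have hfS : φ x ∈ S := (F.le_of_mem hφ).2 x
      refine ⟨⟨_, S.mul_mem (S.inv_mem hxS) hfS⟩, PGroup.le_frattini (K := Subgroup.zpowers _) (fun M hM => ?_)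
        (Subgroup.mem_zpowers _), rfl⟩
      refine Subgroup.zpowers_le.2 ?_
      have he := e x x.2
      rw [toFn_coe] at he
      have h1 : (⟨_, S.mul_mem (S.inv_mem (S.mul_mem (S.mul_mem hs hxS) (S.inv_mem hs))) hfS⟩ : S) ∈ M :=
        hWM M hM (Subgroup.mem_subgroupOf.2 he)
      have h2 : ⁅(⟨x, hxS⟩ : S)⁻¹, ⟨s, hs⟩⁆ ∈ M :=
        PGroup.commutator_le_of_isCoatom hS hM
          (Subgroup.commutator_mem_commutator (Subgroup.mem_top _) (Subgroup.mem_top _))
      convert M.mul_mem h2 h1 using 1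
      apply Subtype.ext
      simp [commutatorElement_def, mul_assoc]
    intro y hy
    obtain ⟨z, hz, e⟩ := hle hy
    exact (Subtype.ext e : z = y) ▸ hz
  have hhyp : (⊥ : Subgroup S) = (F.hyperfocalSubgroup p).subgroupOf S :=
    FusionTate.hyperfocal_eq_of_le_frattini_sup hS hF bot_le fun y hy =>
      Subgroup.mem_sup_left (hfoc y (hyperfocal_le_focal p hy))
  intro R hR α hα hc
  refine eq_one_of_autFn fun x hx => ?_
  have h1 := inv_mul_autFn_mem_hyperfocal hR hα (mem_pResidual_of_coprime hα hc) hx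
  have h2 : (⟨_, hyperfocalSubgroup_le p h1⟩ : S) ∈ (F.hyperfocalSubgroup p).subgroupOf S :=
    Subgroup.mem_subgroupOf.2 h1
  rw [← hhyp, Subgroup.mem_bot, Subtype.ext_iff, Subgroup.coe_one, inv_mul_eq_one] at h2
  exact h2.symm

/-- A normal subgroup of order `d` forces the conclusion. -/
theorem Hyp.noPPrime_of_normal [Finite S] [Fact p.Prime] (h : Hyp F p d) {U : Subgroup Ω}
    (hU : F.IsNormal U) (hd : Nat.card U = d) : NoPPrime F p := by
  intro R hR α hα hc
  obtain ⟨g, hg, hge, hgU⟩ := (isNormal_iff.1 hU).2 R _ (isIso_autFn hR hα).1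
  have himg : img g (R ⊔ U) = R ⊔ U := eq_of_le_of_card (sup_le hR hU.1) (hg.img_le le_rfl
    (sup_mapsTo hg le_sup_left le_sup_right
      (fun x hx => Subgroup.mem_sup_left (by rw [hge x hx]; exact autFn_mem α hx))
      fun x hx => Subgroup.mem_sup_right (hgU x hx))) (hg.card_img le_rfl).ge
  obtain ⟨γ, hγ, eγ⟩ := exists_aut_of_isIso (F := F) (⟨hg, himg⟩ : IsIso F (R ⊔ U) (R ⊔ U) g)
  obtain ⟨k, hk⟩ := h.exists_pow_eq_one (sup_le hR hU.1) le_sup_right hd hγ fun x hx => by
    rw [autFn_apply γ (Subgroup.mem_sup_right hx), eγ]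
    exact hgU x hx
  exact eq_one_of_extension le_sup_left (fun x hx => by
    rw [autFn_apply γ (Subgroup.mem_sup_left hx), eγ]
    exact hge x hx) hc hk

/-! ### Induction -/

/-- The graphs of the maps of the system. -/
def graphs (F : FusionSystem S) : Set (Set (Ω × Ω)) :=
  {G | ∃ P f, IsMap F P f ∧ G = (fun x => (x, f x)) '' (P : Set Ω)}

theorem graphs_finite [Finite S] (F : FusionSystem S) : (graphs F).Finite := by
  refine Set.Finite.subset (((Set.toFinite (S : Set Ω)).prod (Set.toFinite (S : Set Ω))).finite_subsets) ?_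
  rintro G ⟨P, f, hf, rfl⟩
  rintro _ ⟨x, hx, rfl⟩
  exact ⟨hf.le hx, hf.mem hx⟩

theorem noPPrime_aux (p : ℕ) [Fact p.Prime] : ∀ (n m : ℕ), ∀ (Ω : Type u) [Group Ω] (S : Subgroup Ω)
    [Finite S] (F : FusionSystem S) (d : ℕ), Nat.card S ≤ n → (graphs F).ncard ≤ m → IsPGroup p S →
    F.IsSaturated p → Hyp F p d → NoPPrime F p := by
  intro n
  induction n using Nat.strong_induction_on with
  | _ n ihn =>
  intro m
  induction m using Nat.strong_induction_on with
  | _ m ihm =>
  intro Ω _ S _ F d hn hm hS hF h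
  have hp : p.Prime := Fact.out
  have hne : S ≠ ⊥ := fun he => by
    have := h.lt
    rw [he, Subgroup.card_bot] at this
    have := h.one_lt
    omega
  obtain ⟨W, hW, -⟩ := exists_minimalClosed (F := F)
    (stronglyClosed_iff.2 ⟨le_rfl, fun P f hf x hx _ => hf.mem hx⟩) hne
  by_cases hex : ∃ U, IsMinimalClosed F U ∧ F.IsNormal U ∧ Nat.card U = d
  · obtain ⟨U, -, hU, hd⟩ := hex
    exact h.noPPrime_of_normal hU hd
  refine h.noPPrime_of_modConj hS hF hW fun U hU => ?_
  have hUS := hU.1.1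
  have hnS : normalizerIn S U = S :=
    le_antisymm inf_le_left fun g hg => ⟨hg, normalizes_of_stronglyClosed hU.1 hg⟩
  by_cases hUn : F.IsNormal U
  · -- factor system
    have hUd : Nat.card U < d := lt_of_le_of_ne (h.card_le hS hU) fun he => hex ⟨U, hU, hUn, he⟩
    have := finite_of_le hUS
    have hnor : (U.subgroupOf S).Normal := ⟨fun x hx g => Subgroup.mem_subgroupOf.2 (by
      simpa using Fusion.conj_mem_of_stronglyClosed hU.1 g.2 (Subgroup.mem_subgroupOf.1 hx))⟩
    let θ := QuotientGroup.mk' (U.subgroupOf S)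
    have D : QData F U θ (⊤ : Subgroup (S ⧸ U.subgroupOf S)) :=
      ⟨hU.1, fun s => (QuotientGroup.eq_one_iff s).trans Subgroup.mem_subgroupOf,
        MonoidHom.range_eq_top.2 (QuotientGroup.mk'_surjective _)⟩
    obtain ⟨E, hE⟩ := D.exists_factorSystem
    have := D.finite_S'
    have hcS : Nat.card U * Nat.card (⊤ : Subgroup (S ⧸ U.subgroupOf S)) = Nat.card S := by
      rw [← D.card_preimage le_rfl, D.preimage_S']
    have hU1 : 1 < Nat.card U := (Subgroup.one_lt_card_iff_ne_bot U).2 hU.2.1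
    obtain ⟨a, hd⟩ := h.pow
    obtain ⟨b, hb⟩ := IsPGroup.iff_card.1 (hS.to_le hUS)
    have hba : b < a := (Nat.pow_lt_pow_iff_right hp.one_lt).1 (hb ▸ hd ▸ hUd)
    have hdd : d = Nat.card U * p ^ (a - b) := by
      rw [hb, hd, ← pow_add, Nat.add_sub_cancel' hba.le]
    have hsc : ∀ P : Subgroup Ω, F.StronglyClosed P → E.StronglyClosed (imageAlong θ P) := by
      intro P hP
      refine stronglyClosed_iff.2 ⟨le_top, fun R' f' hf' y hy hyP => ?_⟩
      obtain ⟨x, hxP, hxS, rfl⟩ := mem_imageAlong.1 hyP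
      obtain ⟨-, f, hf, e⟩ := (QData.isMap_factor_iff hE).1 hf'
      have hxR : x ∈ preimageAlong θ R' := mem_preimageAlong.2 ⟨hxS, hy⟩
      rw [e x hxR]
      exact mem_imageAlong.2 ⟨f x, (stronglyClosed_iff.1 hP).2 _ f hf x hxR hxP, hf.mem hxR, rfl⟩
    have hE' : Hyp E p (p ^ (a - b)) := by
      refine ⟨⟨_, rfl⟩, Nat.one_lt_pow (Nat.sub_ne_zero_of_lt hba) hp.one_lt, ?_, ?_, ?_⟩
      · have := h.lt
        rw [hdd, ← hcS] at this
        exact lt_of_mul_lt_mul_left this (Nat.zero_le _)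
      · intro R' Q' hQR hR' hQ α hα hst hc
        obtain ⟨f, hf, e⟩ := D.exists_lift_iso hE (isIso_autFn hR' hα)
        obtain ⟨γ, hγ, eγ⟩ := exists_aut_of_isIso hf
        have hγθ : ∀ x ∈ preimageAlong θ R', thF θ (autFn γ x) = autFn α (thF θ x) := fun x hx => by
          rw [autFn_apply γ hx, eγ ⟨x, hx⟩, e x hx]
        have hQQ : preimageAlong θ Q' ≤ preimageAlong θ R' := fun x hx =>
          mem_preimageAlong.2 ⟨(mem_preimageAlong.1 hx).1, hQR (mem_preimageAlong.1 hx).2⟩
        obtain ⟨k, hk⟩ := h.exists_pow_eq_one (preimageAlong_le θ R') hQQ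
          (by rw [D.card_preimage le_top, hQ, ← hdd]) hγ fun x hx =>
            mem_preimageAlong.2 ⟨preimageAlong_le θ R' (autFn_mem γ (hQQ hx)), by
              rw [hγθ x (hQQ hx)]; exact hst _ (mem_preimageAlong.1 hx).2⟩
        have hpow : ∀ j : ℕ, ∀ x ∈ preimageAlong θ R',
            thF θ (autFn (γ ^ j) x) = autFn (α ^ j) (thF θ x) := by
          intro j
          induction j with
          | zero =>
            intro x hx
            rw [pow_zero, pow_zero, autFn_one hx, autFn_one (mem_preimageAlong.1 hx).2]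
          | succ i ih =>
            intro x hx
            rw [pow_succ', pow_succ', autFn_mul_comp _ _ hx,
              autFn_mul_comp _ _ (mem_preimageAlong.1 hx).2, hγθ _ (autFn_mem _ hx), ih x hx]
        have h1 : α ^ p ^ k = 1 := eq_one_of_autFn fun y hy => by
          obtain ⟨x, hxS, rfl⟩ := D.exists_eq (hR' hy)
          have hx : x ∈ preimageAlong θ R' := mem_preimageAlong.2 ⟨hxS, hy⟩
          rw [← hpow _ x hx, hk, autFn_one hx]
        exact orderOf_eq_one_iff.1
          (Nat.eq_one_of_dvd_coprimes (hc.pow_right k) dvd_rfl (orderOf_dvd_of_pow_eq_one h1))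
      · intro Q' _ hQ
        obtain ⟨P, hP, hQP, hQiP⟩ := h.emb (preimageAlong θ Q') (preimageAlong_le θ Q')
          (by rw [D.card_preimage le_top, hQ, ← hdd])
        refine ⟨imageAlong θ P, hsc P hP, ?_, ?_⟩
        · convert hsc _ hQP using 1
          refine le_antisymm (sup_le ?_ ?_) ?_
          · rintro y hy
            obtain ⟨x, hx, rfl⟩ := D.exists_eq (le_top (a := Q') hy)
            exact mem_imageAlong.2 ⟨x, Subgroup.mem_sup_left (mem_preimageAlong.2 ⟨hx, hy⟩), hx, rfl⟩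
          · rintro y hy
            obtain ⟨x, hx, hxS, rfl⟩ := mem_imageAlong.1 hy
            exact mem_imageAlong.2 ⟨x, Subgroup.mem_sup_right hx, hxS, rfl⟩
          · refine fun y hy => ?_
            obtain ⟨x, hx, hxS, rfl⟩ := mem_imageAlong.1 hy
            have hle : preimageAlong θ Q' ⊔ P ≤ preimageAlong θ (Q' ⊔ imageAlong θ P) :=
              sup_le (fun z hz => mem_preimageAlong.2 ⟨(mem_preimageAlong.1 hz).1,
                Subgroup.mem_sup_left (mem_preimageAlong.1 hz).2⟩)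
                fun z hz => mem_preimageAlong.2 ⟨hP.1 hz,
                  Subgroup.mem_sup_right (mem_imageAlong.2 ⟨z, hz, hP.1 hz, rfl⟩)⟩
            exact (mem_preimageAlong.1 (hle hx)).2
        · convert hsc _ hQiP using 1
          ext y
          constructor
          · rintro ⟨hy1, hy2⟩
            obtain ⟨x, hx, hxS, rfl⟩ := mem_imageAlong.1 hy2
            exact mem_imageAlong.2 ⟨x, ⟨mem_preimageAlong.2 ⟨hxS, hy1⟩, hx⟩, hxS, rfl⟩
          · intro hy
            obtain ⟨x, ⟨hx1, hx2⟩, hxS, rfl⟩ := mem_imageAlong.1 hy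
            exact ⟨(mem_preimageAlong.1 hx1).2, mem_imageAlong.2 ⟨x, hx2, hxS, rfl⟩⟩
    have hlt : Nat.card (⊤ : Subgroup (S ⧸ U.subgroupOf S)) < n :=
      lt_of_lt_of_le (lt_of_lt_of_eq (lt_mul_of_one_lt_left Nat.card_pos hU1) hcS) hn
    have hEs := D.isSaturated_factor hS hF hE
    have hEn := ihn _ hlt _ _ _ E _ le_rfl le_rfl (D.isPGroup_S' hS) hEs hE'
    intro P f hf
    obtain ⟨g, hg, hge, -⟩ := (isNormal_iff.1 hUn).2 P f hf
    obtain ⟨g', hg', eg⟩ := D.isMap_image hE hg le_sup_right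
    obtain ⟨s', hs', e'⟩ := exists_conj_of_noPPrime (D.isPGroup_S' hS) hEs hEn hg'
    obtain ⟨s, hs, rfl⟩ := D.exists_eq hs'
    refine ⟨s, hs, fun x hx => ?_⟩
    have hxS := hf.le hx
    have hxU : x ∈ P ⊔ U := Subgroup.mem_sup_left hx
    have h1 := eg x hxU
    rw [e' _ (mem_imageAlong.2 ⟨x, hxU, hxS, rfl⟩), ← thF_conj θ hs hxS, hge x hx] at h1
    exact (D.thF_eq_iff (S.mul_mem (S.mul_mem hs hxS) (S.inv_mem hs)) (hf.mem hx)).1 h1
  · -- normalizer system
    obtain ⟨N, hN⟩ := FusionStable.exists_normalizerSystem (F := F) hUS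
    have hsub : ∀ {P f}, IsMap N P f → IsMap F P f := fun {P f} hf => by
      obtain ⟨-, -, f', hf', he, -⟩ := (FusionStable.isMap_normalizer_iff hN hUS).1 hf
      exact (hf'.mono le_sup_left).congr he
    have hlt : (graphs N).ncard < (graphs F).ncard := by
      refine Set.ncard_lt_ncard (Set.ssubset_iff_subset_ne.2 ⟨?_, fun he => hUn ?_⟩) (graphs_finite F)
      · rintro G ⟨P, f, hf, rfl⟩
        exact ⟨P, f, hsub hf, rfl⟩
      refine isNormal_iff.2 ⟨hUS, fun P f hf => ?_⟩
      obtain ⟨P', f', hf', hG⟩ : (fun x => (x, f x)) '' (P : Set Ω) ∈ graphs N :=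
        he ▸ ⟨P, f, hf, rfl⟩
      have hPP : P = P' := by
        apply SetLike.coe_injective
        have := congrArg (Set.image Prod.fst) hG
        simpa [Set.image_image] using this
      subst hPP
      have hff : ∀ x ∈ P, f' x = f x := fun x hx => by
        obtain ⟨y, -, hy⟩ : (x, f x) ∈ (fun x => (x, f' x)) '' (P : Set Ω) :=
          hG ▸ Set.mem_image_of_mem _ hx
        obtain ⟨rfl, hy2⟩ := Prod.mk.injEq .. ▸ hy
        exact hy2
      obtain ⟨-, -, g, hg, hge, hgU⟩ := (FusionStable.isMap_normalizer_iff hN hUS).1 hf'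
      exact ⟨g, hg, fun x hx => (hge x hx).trans (hff x hx), fun q hq => hgU.mem hq⟩
    have hfinN : Finite (normalizerIn S U) := finite_of_le inf_le_left
    have hNs : N.IsSaturated p := Cfsg.Agent.S5098.result p hS F hF U
      ⟨hUS, fun Q _ => Subgroup.card_le_of_le (hnS.symm ▸ inf_le_left)⟩ N hN
    have hN' : Hyp N p d := by
      refine ⟨h.pow, h.one_lt, hnS.symm ▸ h.lt, ?_, ?_⟩
      · intro R Q hQR hR hQ α hα
        exact h.stab R Q hQR (hR.trans inf_le_left) hQ α
          (FusionStable.autGroup_normalizer_le hN hUS hR hα)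
      · intro Q hQ hc
        obtain ⟨P, h1, h2, h3⟩ := h.emb Q (hQ.trans inf_le_left) hc
        have : ∀ V, F.StronglyClosed V → N.StronglyClosed V := fun V hV =>
          stronglyClosed_iff.2 ⟨hnS.symm ▸ hV.1, fun P f hf => (stronglyClosed_iff.1 hV).2 P f (hsub hf)⟩
        exact ⟨P, this P h1, this _ h2, this _ h3⟩
    have hNn := ihm _ (lt_of_lt_of_le hlt hm) Ω (normalizerIn S U) N d (hnS.symm ▸ hn) le_rfl
      (hS.to_le inf_le_left) hNs hN'
    intro P f hf
    obtain ⟨g, hg, hgf⟩ := exists_map_congr_mod hS hF hU.1 hf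
    have hgU : ∀ q ∈ U, g q ∈ U := fun q hq =>
      isMap_mem_of_stronglyClosed hU.1 hg (Subgroup.mem_sup_right hq) hq
    have hgN : IsMap N (P ⊔ U) g := by
      refine (FusionStable.isMap_normalizer_iff hN hUS).2 ⟨?_, ?_, g, ?_, fun _ _ => rfl, ?_⟩
      · rw [NK_top, hnS]; exact hg.le
      · rw [NK_top, hnS]; exact fun x hx => hg.mem hx
      · rwa [sup_assoc, sup_idem]
      · have hm := hg.mono (le_sup_right : U ≤ P ⊔ U)
        obtain ⟨β, -, eβ⟩ := exists_aut_of_isIso (F := F)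
          (⟨hm, eq_of_le_of_card hUS (hm.img_le le_rfl hgU) (hm.card_img le_rfl).ge⟩ : IsIso F U U g)
        exact ⟨β, Subgroup.mem_top _, eβ⟩
    obtain ⟨s, hs, e⟩ := exists_conj_of_noPPrime (S := normalizerIn S U) (hS.to_le inf_le_left) hNs hNn hgN
    refine ⟨s, hs.1, fun x hx => ?_⟩
    rw [← e x (Subgroup.mem_sup_left hx)]
    exact hgf x hx

/-- The criterion. -/
theorem Hyp.noPPrime [Finite S] [Fact p.Prime] (hS : IsPGroup p S) (hF : F.IsSaturated p)
    (h : Hyp F p d) : NoPPrime F p :=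
  noPPrime_aux p _ _ Ω S F d le_rfl le_rfl hS hF h

end Cfsg.Agent.FusionInner
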